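import Groth.Prelude.Def_RDer
import Groth.Agent.FlatBCD.Kappa
import Mathlib.Algebra.Homology.ShortComplex.ExactFunctor

/-!
Transposition of the comparison `H(G K) → G (H K)` along an adjunction with exact left adjoint.
-/

set_option autoImplicit false
set_option backward.isDefEq.respectTransparency false
set_option backward.isDefEq.respectTransparency.types false
set_option linter.style.haveILetI false

universe v₂ v₃ u₂ u₃

open CategoryTheory CategoryTheory.Limits

noncomputable section

namespace Groth.Agent.W7FlatBC

variable {B : Type u₂} [Category.{v₂} B] [Abelian B] {C : Type u₃} [Category.{v₃} C] [Abelian C]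
  {P : B ⥤ C} {G : C ⥤ B} (adj : P ⊣ G) [P.Additive] [G.Additive] [PreservesFiniteLimits G] [P.PreservesHomology]
  {K : CochainComplex B ℕ} {L : CochainComplex C ℕ}

/-- The transpose of `H(K) → H(G L) → G (H L)` is `P (H K) ≅ H(P K) → H L`. -/
theorem symm_homologyMap_comparison (a : K ⟶ (G.mapHomologicalComplex _).obj L)
    (b : (P.mapHomologicalComplex _).obj K ⟶ L) (h : ∀ n, (adj.homEquiv _ _).symm (a.f n) = b.f n) (i : ℕ) :
    (adj.homEquiv _ _).symm (HomologicalComplex.homologyMap a i ≫ RDer.homologyComparison G L i) =
      ((K.sc i).mapHomologyIso P).inv ≫ HomologicalComplex.homologyMap b i := by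
  haveI := adj.leftAdjoint_preservesColimits.{0, 0}
  haveI : Epi (P.map (K.homologyπ i)) := inferInstance
  let S := K.sc i
  have hπ : P.map S.homologyπ ≫ (S.mapHomologyIso P).inv = (S.mapCyclesIso P).inv ≫ (S.map P).homologyπ := by
    rw [Iso.comp_inv_eq, Category.assoc, FlatBCD.π_mapIso, Iso.inv_hom_id_assoc]
  have hcyc : (adj.homEquiv _ _).symm (HomologicalComplex.cyclesMap a i ≫ RDer.cyclesComparison G L i) =
      (S.mapCyclesIso P).inv ≫ HomologicalComplex.cyclesMap b i := by
    rw [← cancel_mono (L.iCycles i)]
    refine (adj.homEquiv_naturality_right_symm _ _).symm.trans ?_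
    rw [Category.assoc, RDer.cyclesComparison_i, HomologicalComplex.cyclesMap_i,
      adj.homEquiv_naturality_left_symm, h, Category.assoc, HomologicalComplex.cyclesMap_i]
    refine Eq.trans (congrArg (· ≫ b.f i) ?_) (Category.assoc _ _ _)
    exact ((Iso.eq_inv_comp _).2 (S.mapCyclesIso_hom_iCycles P))
  rw [← cancel_epi (P.map (K.homologyπ i)), ← adj.homEquiv_naturality_left_symm,
    HomologicalComplex.homologyπ_naturality_assoc, RDer.homologyπ_homologyComparison, ← Category.assoc,
    adj.homEquiv_naturality_right_symm, hcyc, Category.assoc]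
  refine (congrArg ((S.mapCyclesIso P).inv ≫ ·) (HomologicalComplex.homologyπ_naturality b i).symm).trans ?_
  refine (Category.assoc _ _ _).symm.trans ((congrArg (· ≫ HomologicalComplex.homologyMap b i) hπ.symm).trans ?_)
  exact Category.assoc _ _ _

end Groth.Agent.W7FlatBC
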