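import Groth.Prelude.Def_CohBC2
import Groth.Agent.W7FlatBC.Transpose
import Groth.Agent.FlatBCD.Main
import Groth.Agent.TorBalance.MapExtend
import Groth.Agent.RelPCS.FlatBase

/-!
The base change morphism of higher direct images is an isomorphism for flat base change.
-/

set_option autoImplicit false
set_option backward.isDefEq.respectTransparency false
set_option backward.isDefEq.respectTransparency.types false
set_option linter.style.haveILetI false
set_option maxHeartbeats 1000000

universe u

open CategoryTheory CategoryTheory.Limits AlgebraicGeometry Opposite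

attribute [local instance] HasDerivedCategory.standard

noncomputable section

namespace Groth.Agent.W7FlatBC

open Groth.Agent.FlatBCD (bcC sigma bcMap cmp)

variable {X S X' S' : Scheme.{u}} {f : X ⟶ S} {g : S' ⟶ S} {g' : X' ⟶ X} {f' : X' ⟶ S'}

/-- The base change map on a resolution and on the pullback, indexed by natural numbers. -/
def natMap (w : g' ≫ f = f' ≫ g) {I : CochainComplex X.Modules ℕ} {J : CochainComplex X'.Modules ℕ}
    (s : ((Scheme.Modules.pullback g').mapHomologicalComplex (ComplexShape.up ℕ)).obj I ⟶ J) :
    ((Scheme.Modules.pullback g).mapHomologicalComplex (ComplexShape.up ℕ)).obj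
        (((Scheme.Modules.pushforward f).mapHomologicalComplex (ComplexShape.up ℕ)).obj I) ⟶
      ((Scheme.Modules.pushforward f').mapHomologicalComplex (ComplexShape.up ℕ)).obj J where
  f n := (sigma w).app (I.X n) ≫ (Scheme.Modules.pushforward f').map (s.f n)
  comm' i j _ := by
    have h := congrArg (Scheme.Modules.pushforward f').map (s.comm i j)
    simp only [Functor.map_comp, Functor.mapHomologicalComplex_obj_d] at h ⊢
    rw [Category.assoc, h]
    exact ((sigma w).naturality_assoc (I.d i j) _).symm

/-- The same map on the integers is the extension. -/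
lemma extend_natMap (w : g' ≫ f = f' ≫ g) {I : CochainComplex X.Modules ℕ} {J : CochainComplex X'.Modules ℕ}
    (s : ((Scheme.Modules.pullback g').mapHomologicalComplex (ComplexShape.up ℕ)).obj I ⟶ J) :
    bcMap w ((TorBalance.mapExtendIso (Scheme.Modules.pullback g') ComplexShape.embeddingUpNat I).hom ≫
        HomologicalComplex.extendMap s ComplexShape.embeddingUpNat) ≫
      (TorBalance.mapExtendIso (Scheme.Modules.pushforward f') ComplexShape.embeddingUpNat J).hom =
    ((Scheme.Modules.pullback g).mapHomologicalComplex (ComplexShape.up ℤ)).map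
        (TorBalance.mapExtendIso (Scheme.Modules.pushforward f) ComplexShape.embeddingUpNat I).hom ≫
      (TorBalance.mapExtendIso (Scheme.Modules.pullback g) ComplexShape.embeddingUpNat _).hom ≫
      HomologicalComplex.extendMap (natMap w s) ComplexShape.embeddingUpNat := by
  refine HomologicalComplex.hom_ext _ _ fun k => ?_
  by_cases hk : ∃ n, ComplexShape.embeddingUpNat.f n = k
  · obtain ⟨n, hn⟩ := hk
    let e := ComplexShape.embeddingUpNat
    change ((sigma w).app _ ≫ (Scheme.Modules.pushforward f').map
        ((TorBalance.mapExtendX (Scheme.Modules.pullback g') e I k).hom ≫ (HomologicalComplex.extendMap s e).f k)) ≫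
      (TorBalance.mapExtendX (Scheme.Modules.pushforward f') e J k).hom =
        (Scheme.Modules.pullback g).map (TorBalance.mapExtendX (Scheme.Modules.pushforward f) e I k).hom ≫
          (TorBalance.mapExtendX (Scheme.Modules.pullback g) e _ k).hom ≫
          (HomologicalComplex.extendMap (natMap w s) e).f k
    rw [TorBalance.mapExtendX_hom (Scheme.Modules.pullback g') e I n k hn,
      TorBalance.mapExtendX_hom (Scheme.Modules.pushforward f') e J n k hn,
      TorBalance.mapExtendX_hom (Scheme.Modules.pushforward f) e I n k hn,
      TorBalance.mapExtendX_hom (Scheme.Modules.pullback g) e _ n k hn,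
      HomologicalComplex.extendMap_f _ e hn, HomologicalComplex.extendMap_f _ e hn]
    have hnat := (sigma w).naturality (HomologicalComplex.extendXIso I e hn).hom
    simp only [Functor.comp_map] at hnat
    simp only [natMap, Functor.map_comp, Category.assoc, Iso.inv_hom_id_assoc, Iso.map_inv_hom_id_assoc]
    erw [← reassoc_of% hnat]
  · exact (HomologicalComplex.isZero_extend_X _ _ k fun n hn => hk ⟨n, hn⟩).eq_of_tgt _ _

variable [HasInjectiveResolutions X.Modules] [HasInjectiveResolutions X'.Modules]

/-- Flat base change on injective resolutions. -/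
theorem quasiIso_natMap (H : IsPullback g' f' f g) [QuasiCompact f] [QuasiSeparated f] [Flat g]
    {M : X.Modules} (hM : Coh.IsQCoh M) {M' : X'.Modules} (R : InjectiveResolution M) (R' : InjectiveResolution M')
    (s : ((Scheme.Modules.pullback g').mapHomologicalComplex (ComplexShape.up ℕ)).obj R.cocomplex ⟶ R'.cocomplex)
    [QuasiIso s] : QuasiIso (natMap H.w s) := by
  haveI : Flat g' := MorphismProperty.of_isPullback H.flip ‹Flat g›
  haveI := RelPCS.preservesFiniteLimits_pullback g'
  haveI : R.cochainComplex.IsKInjective := CochainComplex.isKInjective_of_injective _ 0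
  haveI : R'.cochainComplex.IsKInjective := CochainComplex.isKInjective_of_injective _ 0
  let e := ComplexShape.embeddingUpNat
  let s' : ((Scheme.Modules.pullback g').mapHomologicalComplex (ComplexShape.up ℤ)).obj R.cochainComplex ⟶
      R'.cochainComplex :=
    (TorBalance.mapExtendIso (Scheme.Modules.pullback g') e R.cocomplex).hom ≫ HomologicalComplex.extendMap s e
  haveI : QuasiIso (HomologicalComplex.extendMap s e) := (HomologicalComplex.quasiIso_extendMap_iff s e).2 inferInstance
  haveI : QuasiIso s' := inferInstance
  have hq : DCoh.IsQCohD (DerivedCategory.Q.obj R.cochainComplex) := fun i => by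
    refine QC.isQCoh_of_iso ((DerivedCategory.homologyFunctorFactors X.Modules i).app R.cochainComplex).symm ?_
    refine QC.isQCoh_of_iso (asIso (HomologicalComplex.homologyMap R.ι' i)) ?_
    by_cases hi : i = 0
    · subst hi
      exact QC.isQCoh_of_iso (HomologicalComplex.singleObjHomologySelfIso (ComplexShape.up ℤ) 0 M).symm hM
    · exact DQCoh.isQCoh_of_isZero (HomologicalComplex.isZero_single_obj_homology (ComplexShape.up ℤ) 0 M i hi)
  haveI := FlatBCD.quasiIso_bcMap H s' (fun n => inferInstance) (fun n => inferInstance) hq
  have h := extend_natMap H.w s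
  haveI : QuasiIso (bcMap H.w s' ≫
      (TorBalance.mapExtendIso (Scheme.Modules.pushforward f') e R'.cocomplex).hom) := inferInstance
  rw [show bcMap H.w s' ≫ _ = _ from h] at this
  haveI := this
  haveI : QuasiIso ((TorBalance.mapExtendIso (Scheme.Modules.pullback g) e
      (((Scheme.Modules.pushforward f).mapHomologicalComplex (ComplexShape.up ℕ)).obj R.cocomplex)).hom ≫
        HomologicalComplex.extendMap (natMap H.w s) e) :=
    quasiIso_of_comp_left (((Scheme.Modules.pullback g).mapHomologicalComplex (ComplexShape.up ℤ)).map
      (TorBalance.mapExtendIso (Scheme.Modules.pushforward f) e R.cocomplex).hom) _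
  haveI : QuasiIso (HomologicalComplex.extendMap (natMap H.w s) e) :=
    quasiIso_of_comp_left (TorBalance.mapExtendIso (Scheme.Modules.pullback g) e
      (((Scheme.Modules.pushforward f).mapHomologicalComplex (ComplexShape.up ℕ)).obj R.cocomplex)).hom _
  exact (HomologicalComplex.quasiIso_extendMap_iff (natMap H.w s) e).1 inferInstance

variable (f g g' f') in
/-- The base change morphism is the homology of the map on resolutions. -/
theorem exists_bcQ_eq (w : g' ≫ f = f' ≫ g) [PreservesFiniteLimits (Scheme.Modules.pullback g')]
    [(Scheme.Modules.pullback g).PreservesHomology] (M : X.Modules) (q : ℕ) :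
    ∃ s : ((Scheme.Modules.pullback g').mapHomologicalComplex (ComplexShape.up ℕ)).obj
        (injectiveResolution M).cocomplex ⟶ (injectiveResolution ((Scheme.Modules.pullback g').obj M)).cocomplex,
      QuasiIso s ∧ CohBC.bcQ f g f' g' w q M =
        (Scheme.Modules.pullback g).map
            ((injectiveResolution M).isoRightDerivedObj (Scheme.Modules.pushforward f) q).hom ≫
          ((((Scheme.Modules.pushforward f).mapHomologicalComplex (ComplexShape.up ℕ)).obj
            (injectiveResolution M).cocomplex).sc q |>.mapHomologyIso (Scheme.Modules.pullback g)).inv ≫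
          HomologicalComplex.homologyMap (natMap w s) q ≫
          ((injectiveResolution ((Scheme.Modules.pullback g').obj M)).isoRightDerivedObj
            (Scheme.Modules.pushforward f') q).inv := by
  let R := injectiveResolution M
  let N := (Scheme.Modules.pullback g').obj M
  let J := injectiveResolution N
  let P' := Scheme.Modules.pushforward g'
  let adj' := Scheme.Modules.pullbackPushforwardAdjunction g'
  let Kr := injectiveResolution (P'.obj N)
  let η := adj'.unit.app M
  let a : R.cocomplex ⟶ Kr.cocomplex := InjectiveResolution.desc η Kr R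
  let b : Kr.cocomplex ⟶ (P'.mapHomologicalComplex (ComplexShape.up ℕ)).obj J.cocomplex :=
    RDer.descToInjectives (𝟙 (P'.obj N)) Kr.cocomplex Kr.ι
      ((P'.mapHomologicalComplex _).obj J.cocomplex) (RDer.mapAug P' J.ι)
  let A := KInj.mapHomologicalComplexAdj adj' (ComplexShape.up ℕ)
  let s := (A.homEquiv R.cocomplex J.cocomplex).symm (a ≫ b)
  refine ⟨s, ?_, ?_⟩
  · haveI := adj'.leftAdjoint_preservesColimits.{0, 0}
    have hcomm : RDer.mapAug (Scheme.Modules.pullback g') R.ι ≫ s = J.ι := by
      refine HomologicalComplex.from_single_hom_ext ?_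
      have h0 : R.ι.f 0 ≫ (a ≫ b).f 0 = η ≫ (RDer.mapAug P' J.ι).f 0 := by
        have h1 : Kr.ι.f 0 ≫ b.f 0 = (RDer.mapAug P' J.ι).f 0 :=
          (RDer.ι_descToInjectives_f_zero _ _ _ _ _).trans (Category.id_comp _)
        rw [HomologicalComplex.comp_f, ← Category.assoc,
          show R.ι.f 0 ≫ a.f 0 = η ≫ Kr.ι.f 0 from InjectiveResolution.desc_commutes_zero η Kr R,
          Category.assoc, h1]
      simp only [RDer.mapAug, HomologicalComplex.comp_f, Functor.mapHomologicalComplex_map_f,
        HomologicalComplex.singleMapHomologicalComplex_inv_app_self] at h0 ⊢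
      change (_ ≫ (Scheme.Modules.pullback g').map (R.ι.f 0)) ≫ (adj'.homEquiv _ _).symm ((a ≫ b).f 0) = _
      rw [Category.assoc, ← adj'.homEquiv_naturality_left_symm, HomologicalComplex.comp_f, h0]
      simp [η, Adjunction.homEquiv_counit, P']
      exact adj'.left_triangle_components_assoc M _
    haveI : QuasiIso (RDer.mapAug (Scheme.Modules.pullback g') R.ι) := inferInstance
    haveI : QuasiIso (RDer.mapAug (Scheme.Modules.pullback g') R.ι ≫ s) := by rw [hcomm]; infer_instance
    exact quasiIso_of_comp_left (RDer.mapAug (Scheme.Modules.pullback g') R.ι) s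
  · let F := Scheme.Modules.pushforward f
    let F' := Scheme.Modules.pushforward f'
    let G := Scheme.Modules.pushforward g
    let adj := Scheme.Modules.pullbackPushforwardAdjunction g
    let φ : (F.mapHomologicalComplex _).obj R.cocomplex ⟶
        (G.mapHomologicalComplex _).obj ((F'.mapHomologicalComplex _).obj J.cocomplex) :=
      (F.mapHomologicalComplex _).map (a ≫ b) ≫
        (NatTrans.mapHomologicalComplex (bcC w).hom (ComplexShape.up ℕ)).app J.cocomplex
    have hadj : CohBC.bcQAdj f g f' g' w q M =
        (R.isoRightDerivedObj F q).hom ≫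
          (HomologicalComplex.homologyMap φ q ≫ RDer.homologyComparison G _ q) ≫
          G.map (J.isoRightDerivedObj F' q).inv := by
      change (F.rightDerived q).map η ≫ RDer.edgeIn P' F q N ≫ (NatTrans.rightDerived (bcC w).hom q).app N ≫
        RDer.edgeOut F' G q N = _
      rw [Functor.rightDerived_map_eq F q η a (InjectiveResolution.desc_commutes η Kr R),
        InjectiveResolution.rightDerived_app_eq (bcC w).hom J q]
      simp only [RDer.edgeIn, RDer.edgeOut, Category.assoc]
      erw [Iso.inv_hom_id_assoc, Iso.inv_hom_id_assoc, Iso.inv_hom_id_assoc]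
      simp only [φ, HomologicalComplex.homologyMap_comp, Functor.map_comp, Category.assoc]
      rfl
    have hsn : ∀ n, (adj.homEquiv _ _).symm (φ.f n) = (natMap w s).f n := fun n => by
      change (adj.homEquiv _ _).symm (F.map ((a ≫ b).f n) ≫ (bcC w).hom.app (J.cocomplex.X n)) =
        (sigma w).app (R.cocomplex.X n) ≫ F'.map (s.f n)
      have hs : adj'.homEquiv _ _ (s.f n) = (a ≫ b).f n :=
        congrArg (fun k : R.cocomplex ⟶ (P'.mapHomologicalComplex _).obj J.cocomplex => k.f n)
          ((A.homEquiv R.cocomplex J.cocomplex).apply_symm_apply (a ≫ b))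
      rw [FlatBCD.sigma_eq, ← adj.homEquiv_naturality_right_symm, FlatBCD.bcUnit_app, ← hs,
        Adjunction.homEquiv_unit, Functor.map_comp, Category.assoc, Category.assoc]
      exact congrArg (fun k => (adj.homEquiv _ _).symm (_ ≫ k)) ((bcC w).hom.naturality (s.f n))
    rw [CohBC.bcQ, hadj]
    refine (adj.homEquiv_naturality_left_symm _ _).trans ?_
    refine congrArg ((Scheme.Modules.pullback g).map (R.isoRightDerivedObj F q).hom ≫ ·) ?_
    refine (adj.homEquiv_naturality_right_symm _ _).trans ?_
    exact (congrArg (· ≫ (J.isoRightDerivedObj F' q).inv)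
      (symm_homologyMap_comparison adj φ (natMap w s) hsn q)).trans (Category.assoc _ _ _)

/-- Flat base change: the base change morphism is an isomorphism. -/
theorem isIso_bcQ (H : IsPullback g' f' f g) [QuasiCompact f] [QuasiSeparated f] [Flat g]
    [PreservesFiniteLimits (Scheme.Modules.pullback g')] {M : X.Modules} (hM : Coh.IsQCoh M) (q : ℕ) :
    IsIso (CohBC.bcQ f g f' g' H.w q M) := by
  haveI := RelPCS.preservesFiniteLimits_pullback g
  haveI := (Scheme.Modules.pullbackPushforwardAdjunction g).leftAdjoint_preservesColimits.{0, 0}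
  obtain ⟨s, hs, h⟩ := exists_bcQ_eq f g g' f' H.w M q
  haveI := quasiIso_natMap H hM _ _ s
  haveI : IsIso (HomologicalComplex.homologyMap (natMap H.w s) q) :=
    (quasiIsoAt_iff_isIso_homologyMap _ _).1 inferInstance
  rw [h]
  infer_instance

omit [HasInjectiveResolutions X.Modules] [HasInjectiveResolutions X'.Modules] in
/-- Flat base change in degree zero. -/
theorem isIso_baseChangeMap (H : IsPullback g' f' f g) [QuasiCompact f] [QuasiSeparated f] [Flat g]
    {M : X.Modules} (hM : Coh.IsQCoh M) :
    IsIso ((Scheme.Modules.pullback g).map ((Scheme.Modules.pushforward f).map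
        ((Scheme.Modules.pullbackPushforwardAdjunction g').unit.app M)) ≫
      (Scheme.Modules.pullback g).map ((Scheme.Modules.pushforwardComp g' f ≪≫ Scheme.Modules.pushforwardCongr H.w ≪≫
        (Scheme.Modules.pushforwardComp f' g).symm).hom.app ((Scheme.Modules.pullback g').obj M)) ≫
      (Scheme.Modules.pullbackPushforwardAdjunction g).counit.app
        ((Scheme.Modules.pushforward f').obj ((Scheme.Modules.pullback g').obj M))) := by
  haveI : Flat g' := MorphismProperty.of_isPullback H.flip ‹Flat g›
  haveI := RelPCS.preservesFiniteLimits_pullback g'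
  haveI := isIso_bcQ H hM 0
  haveI : IsIso (CohBC.bc0 f g f' g' H.w M ≫ (Scheme.Modules.pushforward f').toRightDerivedZero.app
      ((Scheme.Modules.pullback g').obj M)) := by
    rw [← CohBC.bcQ_zero_compat]
    infer_instance
  haveI : IsIso (CohBC.bc0 f g f' g' H.w M) := IsIso.of_isIso_comp_right _
    ((Scheme.Modules.pushforward f').toRightDerivedZero.app ((Scheme.Modules.pullback g').obj M))
  refine Eq.subst (motive := fun k => IsIso k) ?_ (inferInstance : IsIso (CohBC.bc0 f g f' g' H.w M))
  delta CohBC.bc0 CohBC.bc0Adj
  rw [Adjunction.homEquiv_counit]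
  simp

end Groth.Agent.W7FlatBC
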