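import Groth.Agent.W7Cech.RpushSec
import Groth.Agent.W7FlatBC.Main

/-!
Global sections of higher direct images over an affine base, and flat base change of cohomology.
-/

set_option autoImplicit false
set_option backward.isDefEq.respectTransparency false
set_option backward.isDefEq.respectTransparency.types false
set_option linter.style.haveILetI false
set_option maxHeartbeats 1000000

universe u

open CategoryTheory Category Limits Opposite TopologicalSpace AlgebraicGeometry Abelian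
open Groth.Agent.SiteCoh Groth.Agent.CohQC Groth.Agent.ProjCech
open Groth.Agent.W7Cech (closedG exists_cls)
open scoped TensorProduct

noncomputable section

namespace Groth.Agent.W7FlatBC

/-- Global sections of `R^p f_* M` over an affine base are `H^p(X, M)`, linearly. -/
theorem exists_rpush_top (A : Type u) [CommRing A] {X : Scheme.{u}} [X.Over (Spec (CommRingCat.of A))]
    [QuasiCompact (X ↘ Spec (CommRingCat.of A))] [QuasiSeparated (X ↘ Spec (CommRingCat.of A))]
    [HasInjectiveResolutions X.Modules] (M : X.Modules) (hM : Coh.IsQCoh M) (p : ℕ) :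
    ∃ e : Γ((Coh.Rpush (X ↘ Spec (CommRingCat.of A)) p).obj M, ⊤) ≃+ Coh.HH X M p,
      ∀ (a : A) x, e ((Scheme.ΓSpecIso (CommRingCat.of A)).inv a • x) = a • e x := by
  let f := X ↘ Spec (CommRingCat.of A)
  let S := Spec (CommRingCat.of A)
  have hV : IsAffineOpen (⊤ : S.Opens) := isAffineOpen_top S
  let R := injectiveResolution M
  let P := ((Coh.push f).mapHomologicalComplex (ComplexShape.up ℕ)).obj R.cocomplex
  let I := R.cocomplex
  have hexI : ∀ m, I.ExactAt (m + 1) := R.cocomplex_exactAt_succ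
  have hfl : ∀ n, RPushQC.IsFlasque (R.cocomplex.X n) := fun n => RPushQC.isFlasque_of_injective _
  let e0 : I.cycles 0 ≅ M :=
    IsLimit.conePointUniqueUpToIso (R.cocomplex.cyclesIsKernel 0 1 (by simp)) R.isLimitKernelFork
  obtain ⟨ψ₁, hs₁, hk₁, hl₁⟩ := exists_cls A I hexI hfl p
  let ρ : ∀ m, Γ(I.X m, ⊤) →+ Γ(P.X m, ⊤) := fun m => AddMonoidHom.id _
  have hρd : ∀ i j (w : Γ(I.X i, ⊤)), ρ j ((I.d i j).app ⊤ w) = (P.d i j).app ⊤ (ρ i w) := fun i j w => rfl
  have hρsm : ∀ (a : A) (s : Γ(I.X p, ⊤)),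
      ρ p ((show Γ(X, ⊤) from Coh.toGlobal f a) • s) = (Scheme.ΓSpecIso (CommRingCat.of A)).inv a • ρ p s :=
    fun a s => rfl
  let T := toAbF S
  have : PreservesFiniteLimits T := inferInstance
  have : PreservesFiniteColimits T := CohQC.toSheaf_preservesFiniteColimits S.ringCatSheaf
  have : T.PreservesHomology := Functor.preservesHomologyOfExact T
  let K := (T.mapHomologicalComplex (ComplexShape.up ℕ)).obj P
  have hKX : ∀ n, Acyc (J := Opens.grothendieckTopology S) (⊤ : S.Opens) (K.X n) := fun n q =>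
    haveI := RPushQC.isFlasque_toAb (hfl n)
    haveI : TopCat.Sheaf.IsFlasque ((CohTop.push f.base).obj (Coh.toAb (R.cocomplex.X n))) :=
      TopCat.Sheaf.IsFlasque.pushforward_isFlasque (Coh.toAb (R.cocomplex.X n)) f.base
    flasque_acyclic ((CohTop.push f.base).obj (Coh.toAb (R.cocomplex.X n))) (⊤ : S.Opens) q
  have hKH : ∀ n, Acyc (J := Opens.grothendieckTopology S) (⊤ : S.Opens) (K.homology n) := fun n => by
    have hq : Coh.IsQCoh (P.homology n) :=
      Groth.Agent.QC.isQCoh_of_iso (R.isoRightDerivedObj (Coh.push f) n) (RPushQC.isQCoh_rpush f M hM n)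
    have : (P.homology n).IsQuasicoherent := hq
    exact acyc_of_iso ((P.sc n).mapHomologyIso T).symm
      (fun q => CohQC.hu_vanish_of_isAffineOpen (P.homology n) hV q)
  let θ : (K.homology p).obj.obj (op (⊤ : S.Opens)) ≃+ Γ(P.homology p, ⊤) :=
    (((sheafToPresheaf _ _).mapIso ((P.sc p).mapHomologyIso T)).app (op (⊤ : S.Opens))).addCommGroupIsoToAddEquiv
  let θc : (K.cycles p).obj.obj (op (⊤ : S.Opens)) ≃+ Γ(P.cycles p, ⊤) :=
    (((sheafToPresheaf _ _).mapIso ((P.sc p).mapCyclesIso T)).app (op (⊤ : S.Opens))).addCommGroupIsoToAddEquiv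
  have hθ : ∀ y, (P.homologyπ p).app ⊤ (θc y) = θ ((K.homologyπ p).hom.app (op (⊤ : S.Opens)) y) := fun y =>
    (ConcreteCategory.congr_hom (NatTrans.congr_app (congrArg (fun m => m.hom)
      (CohFinite.homologyπ_mapHomologyIso (P.sc p) T)) (op (⊤ : S.Opens))) y).symm
  have hθi : ∀ y, (P.iCycles p).app ⊤ (θc y) = (K.iCycles p).hom.app (op (⊤ : S.Opens)) y := fun y =>
    ConcreteCategory.congr_hom (NatTrans.congr_app (congrArg (fun m => m.hom)
      ((P.sc p).mapCyclesIso_hom_iCycles T)) (op (⊤ : S.Opens))) y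
  have hi : Function.Injective ((P.iCycles p).app ⊤) := Groth.Agent.QC.app_injective_of_mono (P.iCycles p) ⊤
  have hz : ∀ s : closedG I p ⊤, ∃ c, (P.iCycles p).app ⊤ c = ρ p s.1 := fun s => by
    have hs0 : (P.d p (p + 1)).app ⊤ (ρ p s.1) = 0 := s.2
    obtain ⟨y, hy⟩ := exists_cycle_section (U := (⊤ : S.Opens)) K p (ρ p s.1) hs0
    exact ⟨θc y, (hθi y).trans hy⟩
  choose z hz using hz
  have hzu : ∀ s c, (P.iCycles p).app ⊤ c = ρ p s.1 → z s = c := fun s c h => hi ((hz s).trans h.symm)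
  let ψ₂ : closedG I p ⊤ →+ Γ(P.homology p, ⊤) :=
    AddMonoidHom.mk' (fun s => (P.homologyπ p).app ⊤ (z s)) fun s t => by
      rw [hzu (s + t) (z s + z t) (by rw [map_add, hz, hz, ← map_add]; rfl), map_add]
  have hs₂ : Function.Surjective ψ₂ := fun x => by
    obtain ⟨y, hy⟩ := homologyπ_surjective K hKX hKH p (θ.symm x)
    let w : Γ(I.X p, ⊤) := (P.iCycles p).app ⊤ (θc y)
    have hw' : (I.d p (p + 1)).app ⊤ w = 0 := ConcreteCategory.congr_hom (congrArg
        (fun m : P.cycles p ⟶ P.X (p + 1) => Scheme.Modules.Hom.app m ⊤) (P.iCycles_d p (p + 1))) _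
    refine ⟨⟨w, hw'⟩, ?_⟩
    change (P.homologyπ p).app ⊤ (z _) = x
    rw [hzu ⟨w, hw'⟩ (θc y) rfl, hθ, hy, AddEquiv.apply_symm_apply]
  have hk₂ : ∀ s : closedG I p ⊤, ψ₂ s = 0 ↔ ∃ w, (I.d ((ComplexShape.up ℕ).prev p) p).app ⊤ w = s.1 := by
    intro s
    constructor
    · intro hs
      have hy : (K.homologyπ p).hom.app (op (⊤ : S.Opens)) (θc.symm (z s)) = 0 := θ.injective (by
        rw [← hθ, AddEquiv.apply_symm_apply, map_zero]
        exact hs)
      rcases p with _ | m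
      · refine ⟨0, ?_⟩
        have : IsIso (K.homologyπ 0).hom := inferInstanceAs (IsIso ((sheafToPresheaf _ _).map (K.homologyπ 0)))
        have h0 : θc.symm (z s) = 0 :=
          ((ConcreteCategory.isIso_iff_bijective ((K.homologyπ 0).hom.app (op (⊤ : S.Opens)))).mp inferInstance).1
            (hy.trans (map_zero _).symm)
        rw [map_zero]
        refine Eq.trans ?_ (hz s)
        rw [← AddEquiv.apply_symm_apply θc (z s), h0, map_zero, map_zero]
      · obtain ⟨k, hk⟩ := homologyπ_eq_zero K hKX hKH m (θc.symm (z s)) hy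
        suffices ∀ j, j = m → ∃ w, (I.d j (m + 1)).app ⊤ w = s.1 from this _ (CochainComplex.prev_nat_succ m)
        rintro j rfl
        refine ⟨k, Eq.trans ?_ (hz s)⟩
        rw [← AddEquiv.apply_symm_apply θc (z s), hθi, ← hk]
        exact (ConcreteCategory.congr_hom (NatTrans.congr_app
          (congr_arg (fun (f : K.X j ⟶ K.X (j + 1)) => f.hom) (K.toCycles_i j (j + 1))) (op (⊤ : S.Opens))) k).symm
    · rintro ⟨w, hw⟩
      change (P.homologyπ p).app ⊤ (z s) = 0
      rw [hzu s ((P.toCycles ((ComplexShape.up ℕ).prev p) p).app ⊤ w) (by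
        rw [← hw, hρd]
        exact ConcreteCategory.congr_hom (congrArg
          (fun m : P.X ((ComplexShape.up ℕ).prev p) ⟶ P.X p => Scheme.Modules.Hom.app m ⊤)
          (P.toCycles_i ((ComplexShape.up ℕ).prev p) p)) _)]
      exact ConcreteCategory.congr_hom (congrArg
        (fun m : P.X ((ComplexShape.up ℕ).prev p) ⟶ P.homology p => Scheme.Modules.Hom.app m ⊤)
        (P.toCycles_comp_homologyπ ((ComplexShape.up ℕ).prev p) p)) _
  let E := equivOfKerEq ψ₂ ψ₁ hs₂ hs₁ fun s => (hk₂ s).trans (hk₁ s).symm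
  have hE : ∀ s, E (ψ₂ s) = ψ₁ s := fun s => by
    have : (QuotientAddGroup.quotientKerEquivOfSurjective ψ₂ hs₂).symm (ψ₂ s) = (s : _ ⧸ ψ₂.ker) :=
      (AddEquiv.symm_apply_eq _).2 rfl
    simp only [E, equivOfKerEq, AddEquiv.trans_apply, this]
    rfl
  let a₀ : (Coh.Rpush f p).obj M ≅ P.homology p := R.isoRightDerivedObj (Coh.push f) p
  let La : Γ((Coh.Rpush f p).obj M, ⊤) ≃+ Γ(P.homology p, ⊤) :=
    { toFun := a₀.hom.app ⊤
      invFun := a₀.inv.app ⊤
      left_inv := fun x => ConcreteCategory.congr_hom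
        (congrArg (fun m : (Coh.Rpush f p).obj M ⟶ (Coh.Rpush f p).obj M => Scheme.Modules.Hom.app m ⊤) a₀.hom_inv_id) x
      right_inv := fun x => ConcreteCategory.congr_hom
        (congrArg (fun m : P.homology p ⟶ P.homology p => Scheme.Modules.Hom.app m ⊤) a₀.inv_hom_id) x
      map_add' := map_add _ }
  refine ⟨La.trans (E.trans (CohFinite.hhEquiv A e0 p).toAddEquiv), fun a x => ?_⟩
  change CohFinite.hhEquiv A e0 p (E (a₀.hom.app ⊤ (_ • x))) = a • CohFinite.hhEquiv A e0 p (E (a₀.hom.app ⊤ x))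
  refine (congrArg (fun v => CohFinite.hhEquiv A e0 p (E v)) (TMul.app_smul a₀.hom ((Scheme.ΓSpecIso (CommRingCat.of A)).inv a : Γ(S, ⊤)) x)).trans ?_
  refine Eq.trans (congrArg (CohFinite.hhEquiv A e0 p) ?_) (map_smul (CohFinite.hhEquiv A e0 p) a (E (a₀.hom.app ⊤ x)))
  obtain ⟨s, hs⟩ := hs₂ (a₀.hom.app ⊤ x)
  rw [← hs]
  let g : Γ(X, ⊤) := Coh.toGlobal f a
  have ht : (I.d p (p + 1)).app ⊤ (g • s.1) = 0 := by rw [TMul.app_smul, s.2, smul_zero]
  rw [show (Scheme.ΓSpecIso (CommRingCat.of A)).inv a • ψ₂ s = ψ₂ ⟨g • s.1, ht⟩ from ?_, hE, hE,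
    hl₁ a s ⟨g • s.1, ht⟩ rfl]
  change _ • (P.homologyπ p).app ⊤ (z s) = (P.homologyπ p).app ⊤ (z _)
  rw [hzu ⟨g • s.1, ht⟩ ((Scheme.ΓSpecIso (CommRingCat.of A)).inv a • z s)
    (by rw [TMul.app_smul, hz]; exact (hρsm a s.1).symm), TMul.app_smul]

/-- Flat base change of cohomology along a flat ring map. -/
theorem nonempty_hh_baseChange_hom {A B : Type u} [CommRing A] [CommRing B] (φ : A →+* B) (hφ : φ.Flat)
    {X X' : Scheme.{u}} [X.Over (Spec (CommRingCat.of A))] [X'.Over (Spec (CommRingCat.of B))]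
    [CompactSpace X] [QuasiSeparatedSpace X] (g' : X' ⟶ X)
    (h : IsPullback g' (X' ↘ Spec (CommRingCat.of B)) (X ↘ Spec (CommRingCat.of A))
      (Spec.map (CommRingCat.ofHom φ)))
    (M : X.Modules) (hM : Coh.IsQCoh M) (i : ℕ) :
    letI : Algebra A B := φ.toAlgebra
    Nonempty ((B ⊗[A] Coh.HH X M i) ≃ₗ[B] Coh.HH X' ((Scheme.Modules.pullback g').obj M) i) := by
  letI : Algebra A B := φ.toAlgebra
  let g := Spec.map (CommRingCat.ofHom φ)
  let f := X ↘ Spec (CommRingCat.of A)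
  let f' := X' ↘ Spec (CommRingCat.of B)
  haveI : QuasiCompact f := (quasiCompact_iff_compactSpace f).2 inferInstance
  haveI : QuasiSeparated f := (quasiSeparated_iff_quasiSeparatedSpace f).2 inferInstance
  haveI : QuasiCompact f' := MorphismProperty.of_isPullback (P := @QuasiCompact) h inferInstance
  haveI : QuasiSeparated f' := MorphismProperty.of_isPullback (P := @QuasiSeparated) h inferInstance
  haveI : Flat g := (HasRingHomProperty.Spec_iff (P := @Flat) (φ := CommRingCat.ofHom φ)).2 hφ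
  haveI : Flat g' := MorphismProperty.of_isPullback (P := @Flat) h.flip inferInstance
  haveI := RelPCS.preservesFiniteLimits_pullback g'
  have hM' : Coh.IsQCoh ((Scheme.Modules.pullback g').obj M) := QC.isQCoh_pullback g' hM
  obtain ⟨e, he⟩ := exists_rpush_top A M hM i
  obtain ⟨e', he'⟩ := exists_rpush_top B ((Scheme.Modules.pullback g').obj M) hM' i
  haveI := isIso_bcQ h hM i
  let R := (Coh.Rpush f i).obj M
  let R' := (Coh.Rpush f' i).obj ((Scheme.Modules.pullback g').obj M)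
  let ρ : A →+* Γ(Spec (CommRingCat.of A), ⊤) := (Scheme.ΓSpecIso (CommRingCat.of A)).inv.hom
  let ρ' : B →+* Γ(Spec (CommRingCat.of B), ⊤) := (Scheme.ΓSpecIso (CommRingCat.of B)).inv.hom
  have hρ : (g.appLE ⊤ ⊤ le_top).hom.comp ρ = ρ'.comp φ := by
    refine RingHom.ext fun a => ?_
    have h1 := ConcreteCategory.congr_hom (Scheme.ΓSpecIso_inv_naturality (CommRingCat.ofHom φ)) a
    refine Eq.trans ?_ h1.symm
    rw [Scheme.Hom.appLE]
    simp [ρ, g]
  haveI : IsIso (CommRingCat.ofHom ρ) := inferInstanceAs (IsIso (Scheme.ΓSpecIso (CommRingCat.of A)).inv)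
  haveI : IsIso (CommRingCat.ofHom ρ') := inferInstanceAs (IsIso (Scheme.ΓSpecIso (CommRingCat.of B)).inv)
  haveI : IsIso ((FlatBCD.mu g le_top hρ).app R) :=
    FlatBCD.isIso_mu g le_top hρ (isAffineOpen_top _) (isAffineOpen_top _) R (RPushQC.isQCoh_rpush f M hM i)
      (IsPushout.of_vert_isIso ⟨CommRingCat.hom_ext hρ.symm⟩)
  let Q := (FlatBCD.secF (⊤ : (Spec (CommRingCat.of A)).Opens) ρ).obj R
  let eA : Coh.HH X M i ≃ₗ[A] Q :=
    ({ e with map_smul' := fun a x => he a x } : Q ≃ₗ[A] Coh.HH X M i).symm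
  let e₂ : (B ⊗[A] Q) ≃ₗ[B] (FlatBCD.secF (⊤ : (Spec (CommRingCat.of B)).Opens) ρ').obj
      ((Scheme.Modules.pullback g).obj R) := (asIso ((FlatBCD.mu g le_top hρ).app R)).toLinearEquiv
  let e₃ : (FlatBCD.secF (⊤ : (Spec (CommRingCat.of B)).Opens) ρ').obj ((Scheme.Modules.pullback g).obj R) ≃ₗ[B]
      (FlatBCD.secF (⊤ : (Spec (CommRingCat.of B)).Opens) ρ').obj R' :=
    ((FlatBCD.secF (⊤ : (Spec (CommRingCat.of B)).Opens) ρ').mapIso (asIso (CohBC.bcQ f g f' g' h.w i M))).toLinearEquiv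
  let e₄ : (FlatBCD.secF (⊤ : (Spec (CommRingCat.of B)).Opens) ρ').obj R' ≃ₗ[B]
      Coh.HH X' ((Scheme.Modules.pullback g').obj M) i := { e' with map_smul' := fun b x => he' b x }
  exact ⟨TensorProduct.AlgebraTensorModule.congr (LinearEquiv.refl B B) eA ≪≫ₗ e₂ ≪≫ₗ e₃ ≪≫ₗ e₄⟩

/-- Flat base change of cohomology over an affine base, for quasi-compact quasi-separated schemes. -/
theorem nonempty_hh_baseChange (A B : Type u) [CommRing A] [CommRing B] [Algebra A B] [Module.Flat A B]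
    {X X' : Scheme.{u}} [X.Over (Spec (CommRingCat.of A))] [X'.Over (Spec (CommRingCat.of B))]
    [CompactSpace X] [QuasiSeparatedSpace X] (g' : X' ⟶ X)
    (h : IsPullback g' (X' ↘ Spec (CommRingCat.of B)) (X ↘ Spec (CommRingCat.of A))
      (Spec.map (CommRingCat.ofHom (algebraMap A B))))
    (M : X.Modules) (hM : Coh.IsQCoh M) (i : ℕ) :
    Nonempty ((B ⊗[A] Coh.HH X M i) ≃ₗ[B] Coh.HH X' ((Scheme.Modules.pullback g').obj M) i) := by
  have halg : (algebraMap A B).toAlgebra = ‹Algebra A B› := Algebra.algebra_ext _ _ fun _ => rfl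
  have h' := nonempty_hh_baseChange_hom (algebraMap A B) (RingHom.flat_algebraMap_iff.2 ‹_›) g' h M hM i
  rw [halg] at h'
  exact h'

end Groth.Agent.W7FlatBC
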